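import Mathlib.RingTheory.Flat.EquationalCriterion
import Mathlib.RingTheory.Nakayama
import Mathlib.RingTheory.Noetherian.Basic
import Mathlib.RingTheory.LocalRing.MaximalIdeal.Basic
import Mathlib.RingTheory.RingHom.Flat

/-!
# Kernels of flat quotients with a reduced zero-dimensional closed fibre
-/

set_option autoImplicit false
set_option linter.style.haveILetI false

open IsLocalRing

namespace Groth.Agent.RedFibComp

universe u

theorem ker_le_map_of_flat {A O A' B : Type u} [CommRing A] [CommRing O] [CommRing A'] [CommRing B]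
    [Nontrivial B] [IsLocalRing A] [IsLocalRing O] [IsNoetherianRing O]
    (φ : A →+* O) (π : O →+* B) (q : A →+* A') (ψ : A' →+* B)
    (hπ : Function.Surjective π) (hq : Function.Surjective q) (hcomm : π.comp φ = ψ.comp q)
    (hψ : ψ.Flat) (hm : (maximalIdeal A).map φ = maximalIdeal O) :
    RingHom.ker π ≤ (RingHom.ker q).map φ := by
  refine Submodule.le_of_le_smul_of_le_jacobson_bot (I := maximalIdeal O)
    (IsNoetherian.noetherian (RingHom.ker π)) (maximalIdeal_le_jacobson _) ?_
  intro p hp
  have hp' : p ∈ (maximalIdeal A).map φ := by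
    rw [hm, mem_maximalIdeal]
    intro hu
    exact (hu.map π).ne_zero (RingHom.mem_ker.1 hp)
  rw [Ideal.map, Ideal.span, Submodule.mem_span_set'] at hp'
  obtain ⟨n, o, g, rfl⟩ := hp'
  choose a ha hag using fun i : Fin n => (g i).2
  letI : Algebra A' B := ψ.toAlgebra
  haveI : Module.Flat A' B := hψ
  have hrel : ∑ i, q (a i) • π (o i) = 0 := by
    rw [← RingHom.mem_ker.1 hp, map_sum]
    refine Finset.sum_congr rfl fun i _ => ?_
    rw [Algebra.smul_def, smul_eq_mul, map_mul, mul_comm, ← hag]
    exact congrArg (π (o i) * ·) (DFunLike.congr_fun hcomm (a i)).symm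
  obtain ⟨k, c, y, hy, hc⟩ := Module.Flat.isTrivialRelation_of_sum_smul_eq_zero hrel
  choose C hC using fun i j => hq (c i j)
  choose Y hY using fun j => hπ (y j)
  have hsum : ∑ i, o i • (g i : O) =
      ∑ i, (φ (a i) * (o i - ∑ j, φ (C i j) * Y j)) + ∑ j, φ (∑ i, a i * C i j) * Y j := by
    simp only [mul_sub, Finset.sum_sub_distrib, Finset.mul_sum, map_sum, Finset.sum_mul, map_mul]
    rw [Finset.sum_comm (s := (Finset.univ : Finset (Fin k)))]
    simp only [mul_assoc, sub_add_cancel, smul_eq_mul]
    refine Finset.sum_congr rfl fun i _ => ?_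
    rw [← hag, mul_comm]
  rw [hsum]
  refine Submodule.add_mem_sup ?_ ?_ |> fun h => (sup_comm (α := Submodule O O) _ _).le h
  · refine Submodule.sum_mem _ fun i _ => ?_
    rw [← smul_eq_mul]
    refine Submodule.smul_mem_smul (hm ▸ Ideal.mem_map_of_mem φ (ha i)) ?_
    rw [RingHom.mem_ker, map_sub, map_sum, sub_eq_zero]
    refine (hy i).trans ?_
    refine Finset.sum_congr rfl fun j _ => ?_
    rw [map_mul, hY, Algebra.smul_def, ← hC]
    exact congrArg (· * y j) (DFunLike.congr_fun hcomm (C i j)).symm
  · refine Submodule.sum_mem _ fun j _ => ?_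
    refine Ideal.mul_mem_right _ _ (Ideal.mem_map_of_mem φ ?_)
    rw [RingHom.mem_ker, map_sum]
    simpa [hC] using hc j

end Groth.Agent.RedFibComp
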