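import Groth.Agent.RedFibComp.Algebra
import Groth.Agent.GeomRedFlat5.Nhd
import Groth.Agent.H23.StalkPrimes
import Groth.Agent.DimFormula.ClosedSub
import Groth.Agent.DvrFibreLen.Main

/-!
# Integral closed subschemes universally open at a reduced point of the fibre
-/

set_option autoImplicit false
set_option linter.style.haveILetI false

open CategoryTheory Limits AlgebraicGeometry IsLocalRing TensorProduct
open Groth.Agent.H23 Groth.Agent.H23.StalkPrimes Groth.Agent.GeomRedFlat5

namespace Groth.Agent.RedFibComp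

universe u

section Tensor

variable {A S T : Type u} [CommRing A] [IsLocalRing A] [CommRing S] [CommRing T] [Algebra A S] [Algebra A T]

theorem special_fibre_congr (π : S →ₐ[A] T) (hπ : Function.Surjective π)
    (hker : RingHom.ker π ≤ (maximalIdeal A).map (algebraMap A S)) :
    Algebra.IsGeometricallyReduced (ResidueField A) (ResidueField A ⊗[A] T) ↔
      Algebra.IsGeometricallyReduced (ResidueField A) (ResidueField A ⊗[A] S) := by
  let m : ResidueField A ⊗[A] S →ₐ[ResidueField A] ResidueField A ⊗[A] T :=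
    Algebra.TensorProduct.map (AlgHom.id _ _) π
  have hsurj : Function.Surjective m := LinearMap.lTensor_surjective _ (g := π.toLinearMap) hπ
  have hinj : Function.Injective m := by
    rw [injective_iff_map_eq_zero]
    intro x hx
    have hk := Algebra.TensorProduct.lTensor_ker (A := ResidueField A) π hπ
    have hx' : x ∈ (RingHom.ker π).map
        (Algebra.TensorProduct.includeRight : S →ₐ[A] ResidueField A ⊗[A] S) := by
      rw [← hk]; exact hx
    suffices h : (RingHom.ker π).map
        (Algebra.TensorProduct.includeRight : S →ₐ[A] ResidueField A ⊗[A] S) = ⊥ by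
      rw [h] at hx'; exact hx'
    rw [eq_bot_iff]
    refine (Ideal.map_mono hker).trans ?_
    rw [Ideal.map_le_iff_le_comap, Ideal.map_le_iff_le_comap]
    intro a ha
    show (Algebra.TensorProduct.includeRight : S →ₐ[A] ResidueField A ⊗[A] S) (algebraMap A S a) = 0
    rw [AlgHom.commutes, Algebra.TensorProduct.algebraMap_apply, ResidueField.algebraMap_eq,
      (residue_eq_zero_iff a).2 ha, zero_tmul]
  let e : ResidueField A ⊗[A] S ≃ₐ[ResidueField A] ResidueField A ⊗[A] T :=
    AlgEquiv.ofBijective m ⟨hinj, hsurj⟩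
  exact ⟨fun h => by haveI := h; exact .of_injective e.toAlgHom e.injective,
    fun h => by haveI := h; exact .of_injective e.symm.toAlgHom e.symm.injective⟩

theorem isRadical_map_maximal
    (hk : Algebra.IsGeometricallyReduced (ResidueField A) (ResidueField A ⊗[A] S)) :
    ((maximalIdeal A).map (algebraMap A S)).IsRadical := by
  haveI := hk
  haveI : _root_.IsReduced (ResidueField A ⊗[A] S) :=
    Algebra.isReduced_of_isGeometricallyReduced (ResidueField A)
  rw [Ideal.isRadical_iff_quotient_reduced]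
  let e : (S ⧸ (maximalIdeal A).map (algebraMap A S)) ≃ₐ[A] ResidueField A ⊗[A] S :=
    ((Algebra.TensorProduct.quotIdealMapEquivTensorQuot S (maximalIdeal A)).restrictScalars A).trans
      (Algebra.TensorProduct.comm A S (A ⧸ maximalIdeal A))
  exact isReduced_of_injective e e.injective

end Tensor

section Scheme

variable {X Y Z : Scheme.{u}} (f : X ⟶ Y)

/-- A closed immersion whose kernel at a point lies in the ideal of the fibre. -/
theorem E_closedSub_iff (i : Z ⟶ X) [IsClosedImmersion i] (a : Z)
    (hker : RingHom.ker (i.stalkMap a).hom ≤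
      (maximalIdeal (Y.presheaf.stalk (f (i a)))).map (f.stalkMap (i a)).hom) :
    E (i ≫ f) a ↔ E f (i a) := by
  letI : Algebra (Y.presheaf.stalk (f.base (i a))) (X.presheaf.stalk (i a)) :=
    (f.stalkMap (i a)).hom.toAlgebra
  letI : Algebra (Y.presheaf.stalk (f.base (i a))) (Z.presheaf.stalk a) :=
    ((i.stalkMap a).hom.comp (f.stalkMap (i a)).hom).toAlgebra
  let π : X.presheaf.stalk (i a) →ₐ[Y.presheaf.stalk (f.base (i a))] Z.presheaf.stalk a :=
    { (i.stalkMap a).hom with commutes' := fun _ => rfl }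
  letI : Algebra (Y.presheaf.stalk ((i ≫ f).base a)) (Z.presheaf.stalk a) :=
    ((i.stalkMap a).hom.comp (f.stalkMap (i a)).hom).toAlgebra
  refine Iff.trans (isGeomReducedAt_fibre_iff (i ≫ f) a ?_)
    ((special_fibre_congr π (i.stalkMap_surjective a) hker).trans
      (isGeomReducedAt_fibre_iff f (i a) rfl).symm)
  exact congrArg CommRingCat.Hom.hom (Scheme.Hom.stalkMap_comp i f a).symm

/-- A reduced maximal point of a fibre: the maximal ideal of the base generates. -/
theorem map_maximal_eq_of_fibMax {z : X} (hz : FibDim.FibMax f z) (hE : E f z) :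
    (maximalIdeal (Y.presheaf.stalk (f z))).map (f.stalkMap z).hom = maximalIdeal (X.presheaf.stalk z) := by
  letI : Algebra (Y.presheaf.stalk (f.base z)) (X.presheaf.stalk z) := (f.stalkMap z).hom.toAlgebra
  have hrad := isRadical_map_maximal (S := X.presheaf.stalk z) ((isGeomReducedAt_fibre_iff f z rfl).1 hE)
  have hr : ((maximalIdeal (Y.presheaf.stalk (f z))).map (f.stalkMap z).hom).radical =
      (maximalIdeal (Y.presheaf.stalk (f z))).map (f.stalkMap z).hom := hrad.radical
  rw [← hr]
  refine le_antisymm ?_ ?_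
  · rw [← (maximalIdeal.isMaximal (X.presheaf.stalk z)).isPrime.radical]
    refine Ideal.radical_mono (Ideal.map_le_iff_le_comap.2 fun a ha => ?_)
    exact fun hu => (mem_maximalIdeal a).1 ha (isUnit_of_map_unit (f.stalkMap z).hom a hu)
  rw [Ideal.radical_eq_sInf]
  refine le_sInf ?_
  rintro Q ⟨hQ, hQp⟩
  haveI := hQp
  obtain ⟨t, ht, rfl⟩ := H23.StalkPrimes.exists_point Q
  have h1 : maximalIdeal (Y.presheaf.stalk (f z)) ≤ (CDiv6.primeOf (ht.map f.continuous)).asIdeal := by
    rw [← comap_primeOf f ht, ← Ideal.map_le_iff_le_comap]; exact hQ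
  rw [← DvrFibreLen.primeOf_self] at h1
  have h2 : f z ⤳ f t := (primeOf_le_iff _ _).1 h1
  have h3 : t = z := hz t ht ((ht.map f.continuous).antisymm h2).eq
  subst h3
  exact (DvrFibreLen.primeOf_self t).ge

theorem ker_stalkMap_nilradical_le (Y : Scheme.{u}) (v : Y.nilradical.subscheme) :
    RingHom.ker (Y.nilradical.subschemeι.stalkMap v).hom ≤
      _root_.nilradical (Y.presheaf.stalk (Y.nilradical.subschemeι v)) := by
  intro s hs
  rw [nilradical_eq_sInf, Submodule.mem_sInf]
  intro (Q : Ideal _) (hQ : Q.IsPrime)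
  obtain ⟨y', hy', rfl⟩ := H23.StalkPrimes.exists_point Q
  let j := Y.nilradical.subschemeι
  obtain ⟨v', rfl⟩ : y' ∈ Set.range j := by
    rw [Scheme.IdealSheafData.range_subschemeι]; simp [Scheme.nilradical]
  have hv' : v' ⤳ v := j.isEmbedding.isInducing.specializes_iff.1 hy'
  rw [← comap_primeOf j hv', Ideal.mem_comap, RingHom.mem_ker.1 hs]
  exact Ideal.zero_mem _

theorem exists_factor_nilradical (g : Z ⟶ Y) [IsReduced Z] :
    ∃ g₀ : Z ⟶ Y.nilradical.subscheme, g₀ ≫ Y.nilradical.subschemeι = g := by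
  refine ⟨IsClosedImmersion.lift Y.nilradical.subschemeι g ?_, IsClosedImmersion.lift_fac _ _ _⟩
  rw [Scheme.IdealSheafData.ker_subschemeι]
  refine Scheme.IdealSheafData.le_ofIdeals_iff.2 fun U s hs => ?_
  obtain ⟨n, hn⟩ : ∃ n, s ^ n = 0 := by
    simpa [Scheme.nilradical, Ideal.mem_radical_iff] using hs
  exact (IsNilpotent.map ⟨n, hn⟩ (g.app U).hom).eq_zero

variable [IsLocallyNoetherian Y] [LocallyOfFiniteType f]

theorem main (i : Z ⟶ X) [IsClosedImmersion i] [IsIntegral Z] (w : Z)
    (hz : FibDim.FibMax f (i w)) (hE : E f (i w)) (hopen : EGA43.IsUnivOpenAt (i ≫ f) w) :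
    (∀ t : X, t ⤳ i w → t ∈ Set.range i) ∧ ∀ a : Z, a ⤳ w → E f (i a) := by
  haveI : IsLocallyNoetherian X := LocallyOfFiniteType.isLocallyNoetherian f
  have hm := map_maximal_eq_of_fibMax f hz hE
  have hEw : E (i ≫ f) w := by
    refine (E_closedSub_iff f i w ?_).2 hE
    rw [hm]
    exact le_maximalIdeal (RingHom.ker_ne_top _)
  let j := Y.nilradical.subschemeι
  haveI : IsReduced Y.nilradical.subscheme := H23.RedSub.isReduced_nilradical Y
  haveI : IsLocallyNoetherian Y.nilradical.subscheme := LocallyOfFiniteType.isLocallyNoetherian j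
  obtain ⟨g, hg⟩ := exists_factor_nilradical (i ≫ f)
  haveI : LocallyOfFiniteType (g ≫ j) := by rw [hg]; infer_instance
  haveI : LocallyOfFiniteType g := locallyOfFiniteType_of_comp g j
  have hEg : E g w := (E_comp_mono g j w).1 (by rw [hg]; exact hEw)
  have hgopen : EGA43.IsUnivOpenAt g w := by
    intro Y' h z hzw
    rw [← hg] at hopen
    have sq : IsPullback (𝟙 Z) g (g ≫ j) j := IsPullback.mk ⟨by simp⟩
      ⟨PullbackCone.IsLimit.mk _ (fun s => s.fst) (fun s => by simp)
        (fun s => (cancel_mono j).1 (by rw [Category.assoc]; exact s.condition))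
        (fun s m h1 _ => by simpa using h1)⟩
    exact QHomeo.univOpenAt_openAt hopen ((IsPullback.of_hasPullback g h).paste_horiz sq) z (by simpa using hzw)
  have hmax : FibDim.FibMax g w := by
    intro a ha hga
    refine i.isEmbedding.injective (hz _ (ha.map i.continuous) ?_)
    show (i ≫ f) a = (i ≫ f) w
    rw [← hg, Scheme.Hom.comp_apply, Scheme.Hom.comp_apply, hga]
  have hopen' : ∀ z : ↥(g.fiber (g.base w)), g.asFiber w ∈ closure {z} →
      (∀ z' : ↥(g.fiber (g.base w)), z ∈ closure {z'} → z' = z) →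
      EGA43.IsUnivOpenAt g ((g.fiberι (g.base w)).base z) := by
    intro z h1 _
    have : (g.fiberι (g.base w)).base z = w := by
      refine hmax _ ?_ (FlatDvr.fiberι_apply_eq g z)
      simpa [Scheme.Hom.fiberι_asFiber] using
        (specializes_iff_mem_closure.2 h1).map (g.fiberι (g.base w)).continuous
    rw [this]; exact hgopen
  obtain ⟨U, hwU, hU⟩ := exists_FE_nhd g w hopen' hEg inferInstance
  have hjw : j (g w) = f (i w) := by
    rw [← Scheme.Hom.comp_apply, hg]; rfl
  let q : Y.presheaf.stalk (f (i w)) ⟶ Y.nilradical.subscheme.presheaf.stalk (g w) :=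
    (Y.presheaf.stalkCongr (.of_eq hjw.symm)).hom ≫ j.stalkMap (g w)
  have hcomm : f.stalkMap (i w) ≫ i.stalkMap w = q ≫ g.stalkMap w := by
    rw [← Scheme.Hom.stalkMap_comp, Scheme.Hom.stalkMap_congr_hom _ _ hg.symm w,
      Scheme.Hom.stalkMap_comp]
    simp only [q, Category.assoc]
    rfl
  have hqs : Function.Surjective q := by
    simp only [q, CommRingCat.hom_comp, RingHom.coe_comp]
    exact (j.stalkMap_surjective _).comp (ConcreteCategory.bijective_of_isIso _).2
  have hP := ker_le_map_of_flat (f.stalkMap (i w)).hom (i.stalkMap w).hom q.hom (g.stalkMap w).hom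
    (i.stalkMap_surjective w) hqs (congrArg CommRingCat.Hom.hom hcomm) (hU w hwU).1 hm
  have hN : RingHom.ker q.hom ≤ _root_.nilradical (Y.presheaf.stalk (f (i w))) := by
    intro s hs
    have h1 := ker_stalkMap_nilradical_le Y (g w)
      (show (Y.presheaf.stalkCongr (.of_eq hjw.symm)).hom s ∈ RingHom.ker (j.stalkMap (g w)).hom from hs)
    exact (IsNilpotent.map_iff (ConcreteCategory.bijective_of_isIso _).1).1 (mem_nilradical.1 h1)
  have hnil : RingHom.ker (i.stalkMap w).hom ≤ _root_.nilradical (X.presheaf.stalk (i w)) := by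
    refine hP.trans (Ideal.map_le_iff_le_comap.2 fun s hs => ?_)
    exact mem_nilradical.2 (IsNilpotent.map (mem_nilradical.1 (hN hs)) _)
  refine ⟨fun t ht => ?_, fun a ha => ?_⟩
  · have hle : RingHom.ker (i.stalkMap w).hom ≤ (CDiv6.primeOf ht).asIdeal :=
      hnil.trans (nilradical_le_prime _)
    haveI := Ideal.map_isPrime_of_surjective (i.stalkMap_surjective w) hle
    obtain ⟨a, ha, hQ⟩ := H23.StalkPrimes.exists_point ((CDiv6.primeOf ht).asIdeal.map (i.stalkMap w).hom)
    refine ⟨a, primeOf_inj (ha.map i.continuous) ht ?_⟩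
    rw [← comap_primeOf i ha, hQ, Ideal.comap_map_of_surjective _ (i.stalkMap_surjective w)]
    exact sup_eq_left.2 hle
  · have hFE := hU a (ha.mem_open U.isOpen hwU)
    have hEa : E (i ≫ f) a := by
      rw [← hg]; exact (E_comp_mono g j a).2 hFE.2
    refine (E_closedSub_iff f i a ?_).1 hEa
    have hia : i a ⤳ i w := ha.map i.continuous
    obtain ⟨S, hS⟩ := VarGeom.exists_isLocalization_stalkSpecializes hia
    obtain ⟨S', hS'⟩ := VarGeom.exists_isLocalization_stalkSpecializes ha
    letI := (X.presheaf.stalkSpecializes hia).hom.toAlgebra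
    letI := (Z.presheaf.stalkSpecializes ha).hom.toAlgebra
    intro s hs
    obtain ⟨⟨r, d⟩, hrd⟩ := IsLocalization.surj S s
    have h1 : Z.presheaf.stalkSpecializes ha (i.stalkMap w r) = 0 := by
      rw [← Scheme.Hom.stalkSpecializes_stalkMap_apply i a w ha]
      refine (congrArg (i.stalkMap a).hom hrd.symm).trans ?_
      rw [map_mul, RingHom.mem_ker.1 hs, zero_mul]
    obtain ⟨d', hd'⟩ := (IsLocalization.map_eq_zero_iff S' (Z.presheaf.stalk a) _).1 h1
    have hd0 : (d' : Z.presheaf.stalk w) ≠ 0 := fun h0 =>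
      (IsLocalization.map_units (Z.presheaf.stalk a) d').ne_zero (by rw [h0, map_zero])
    have h2 := hP (RingHom.mem_ker.2 ((mul_eq_zero.1 hd').resolve_left hd0))
    refine (Ideal.mul_unit_mem_iff_mem _ (IsLocalization.map_units (X.presheaf.stalk (i a)) d)).1 ?_
    rw [hrd]
    suffices hsub : (RingHom.ker q.hom).map (f.stalkMap (i w)).hom ≤
        ((maximalIdeal (Y.presheaf.stalk (f (i a)))).map (f.stalkMap (i a)).hom).comap
          (X.presheaf.stalkSpecializes hia).hom from hsub h2
    refine Ideal.map_le_iff_le_comap.2 fun b hb => ?_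
    rw [Ideal.mem_comap, Ideal.mem_comap]
    rw [← Scheme.Hom.stalkSpecializes_stalkMap_apply f (i a) (i w) hia]
    refine Ideal.mem_map_of_mem _ ?_
    rw [mem_maximalIdeal, mem_nonunits_iff]
    exact fun hu => (hu.not_isNilpotent) (IsNilpotent.map (mem_nilradical.1 (hN hb)) _)

end Scheme

end Groth.Agent.RedFibComp
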